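import Mathlib.RingTheory.MvPowerSeries.NoZeroDivisors
import Mathlib.RingTheory.MvPowerSeries.Inverse
import Mathlib.RingTheory.PowerSeries.Order
import Mathlib.RingTheory.PowerSeries.Inverse
import Mathlib.RingTheory.AdicCompletion.LocalRing
import Mathlib.RingTheory.AdicCompletion.Noetherian
import Mathlib.RingTheory.Filtration

/-!
# Local rings with an ordinary double point

The node `K[[x, y]]/(xy)` is reduced; a local ring whose completion is a node is reduced, and it
has no two elements tangent to the branches whose powers are units times powers of one element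
(the two branches give two different valuations).
-/

set_option autoImplicit false

universe u

open IsLocalRing MvPowerSeries

namespace Groth.Agent.H11Node

variable {K : Type u} [Field K]

/-- Restriction of a power series to a coordinate axis. -/
noncomputable def axis (i : Fin 2) : MvPowerSeries (Fin 2) K →+* PowerSeries K where
  toFun f := PowerSeries.mk fun n => coeff (Finsupp.single i n) f
  map_one' := by
    classical
    ext n
    simp [PowerSeries.coeff_one, MvPowerSeries.coeff_one, Finsupp.single_eq_zero]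
  map_mul' f g := by
    classical
    ext n
    rw [PowerSeries.coeff_mk, MvPowerSeries.coeff_mul, PowerSeries.coeff_mul, Finsupp.antidiagonal_single,
      Finset.sum_map]
    exact Finset.sum_congr rfl fun x _ => by simp
  map_zero' := by ext n; simp
  map_add' f g := by ext n; simp

theorem coeff_axis (i : Fin 2) (f : MvPowerSeries (Fin 2) K) (n : ℕ) :
    PowerSeries.coeff n (axis i f) = coeff (Finsupp.single i n) f := by
  simp [axis]

theorem axis_X_self (i : Fin 2) : axis i (X i : MvPowerSeries (Fin 2) K) = PowerSeries.X := by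
  classical
  ext n
  rw [coeff_axis, MvPowerSeries.coeff_X, PowerSeries.coeff_X]
  exact if_congr ⟨fun h => by simpa using congrArg (fun d => d i) h, fun h => by rw [h]⟩ rfl rfl

theorem axis_X_of_ne {i j : Fin 2} (h : j ≠ i) : axis i (X j : MvPowerSeries (Fin 2) K) = 0 := by
  classical
  ext n
  rw [coeff_axis, MvPowerSeries.coeff_X, if_neg]
  · simp
  · intro e
    have := congrArg (fun d => d j) e
    simp [Finsupp.single_eq_of_ne h] at this

variable (K)

/-- The ideal of the node. -/
noncomputable abbrev nodeIdeal : Ideal (MvPowerSeries (Fin 2) K) :=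
  Ideal.span {(X 0 * X 1 : MvPowerSeries (Fin 2) K)}

/-- The node. -/
abbrev NodeRing : Type u := MvPowerSeries (Fin 2) K ⧸ nodeIdeal K

variable {K}

/-- A branch of the node. -/
noncomputable def branch (i : Fin 2) : NodeRing K →+* PowerSeries K :=
  Ideal.Quotient.lift (nodeIdeal K) (axis i) fun a ha => by
    obtain ⟨c, rfl⟩ := Ideal.mem_span_singleton'.1 ha
    fin_cases i <;> simp [axis_X_of_ne]

theorem branch_mk (i : Fin 2) (f : MvPowerSeries (Fin 2) K) :
    branch i (Ideal.Quotient.mk (nodeIdeal K) f) = axis i f := rfl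

theorem branch_injective {a : NodeRing K} (h0 : branch 0 a = 0) (h1 : branch 1 a = 0) : a = 0 := by
  classical
  obtain ⟨f, rfl⟩ := Ideal.Quotient.mk_surjective a
  rw [branch_mk] at h0 h1
  obtain ⟨g, hg⟩ : (X 0 : MvPowerSeries (Fin 2) K) ∣ f := X_dvd_iff.2 fun m hm => by
    have e : m = Finsupp.single 1 (m 1) := by ext j; fin_cases j <;> simp [hm]
    rw [e, ← coeff_axis, h1, map_zero]
  obtain ⟨g', hg'⟩ : (X 1 : MvPowerSeries (Fin 2) K) ∣ g := X_dvd_iff.2 fun m hm => by
    have e : m = Finsupp.single 0 (m 0) := by ext j; fin_cases j <;> simp [hm]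
    have h : axis 0 g = 0 := by
      rw [hg, map_mul, axis_X_self] at h0
      exact (mul_eq_zero.1 h0).resolve_left PowerSeries.X_ne_zero
    rw [e, ← coeff_axis, h, map_zero]
  refine Ideal.Quotient.eq_zero_iff_mem.2 (Ideal.mem_span_singleton'.2 ⟨g', ?_⟩)
  rw [hg, hg']; ring

instance : _root_.IsReduced (NodeRing K) :=
  ⟨fun a ⟨n, hn⟩ => branch_injective
    (IsReduced.eq_zero _ ⟨n, by rw [← map_pow, hn, map_zero]⟩)
    (IsReduced.eq_zero _ ⟨n, by rw [← map_pow, hn, map_zero]⟩)⟩

theorem X_dvd_branch (i : Fin 2) {a : NodeRing K} (ha : ¬ IsUnit a) : PowerSeries.X ∣ branch i a := by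
  obtain ⟨f, rfl⟩ := Ideal.Quotient.mk_surjective a
  rw [PowerSeries.X_dvd_iff, ← PowerSeries.coeff_zero_eq_constantCoeff_apply, branch_mk, coeff_axis,
    Finsupp.single_zero, coeff_zero_eq_constantCoeff_apply]
  by_contra h
  exact ha ((MvPowerSeries.isUnit_iff_constantCoeff.2 (Ne.isUnit h)).map _)

section Completion

variable {B : Type u} [CommRing B] [IsLocalRing B] [IsNoetherianRing B]

local notation "B̂" => AdicCompletion (maximalIdeal B) B

theorem exists_mem_sub_mem_sq {z : B̂} (hz : z ∈ maximalIdeal B̂) :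
    ∃ b ∈ maximalIdeal B, z - algebraMap B B̂ b ∈ maximalIdeal B̂ ^ 2 := by
  have hz' : z ∈ Ideal.span (algebraMap B B̂ '' (maximalIdeal B : Set B)) := by
    rw [AdicCompletion.maximalIdeal_eq_map] at hz
    exact hz
  induction hz' using Submodule.span_induction with
  | mem x hx =>
    obtain ⟨b, hb, rfl⟩ := hx
    exact ⟨b, hb, by simp⟩
  | zero => exact ⟨0, zero_mem _, by simp⟩
  | add x y hx hy ihx ihy =>
    have hmx : x ∈ maximalIdeal B̂ := by rw [AdicCompletion.maximalIdeal_eq_map]; exact hx
    have hmy : y ∈ maximalIdeal B̂ := by rw [AdicCompletion.maximalIdeal_eq_map]; exact hy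
    obtain ⟨b, hb, hb'⟩ := ihx hmx
    obtain ⟨c, hc, hc'⟩ := ihy hmy
    exact ⟨b + c, add_mem hb hc, by rw [map_add, add_sub_add_comm]; exact add_mem hb' hc'⟩
  | smul r x hx ih =>
    have hmx : x ∈ maximalIdeal B̂ := by rw [AdicCompletion.maximalIdeal_eq_map]; exact hx
    obtain ⟨b, hb, hb'⟩ := ih hmx
    obtain ⟨c, hc⟩ : ∃ c : B, r - algebraMap B B̂ c ∈ maximalIdeal B̂ := by
      obtain ⟨cbar, hcbar⟩ := (AdicCompletion.residueField_map_bijective_of_fg (IsNoetherian.noetherian _)).2
        (residue B̂ r)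
      obtain ⟨c, rfl⟩ := residue_surjective cbar
      refine ⟨c, ?_⟩
      rw [← residue_eq_zero_iff, map_sub, sub_eq_zero, ← hcbar]
      rfl
    refine ⟨c * b, Ideal.mul_mem_left _ _ hb, ?_⟩
    have e : r • x - algebraMap B B̂ (c * b) =
        r * (x - algebraMap B B̂ b) + (r - algebraMap B B̂ c) * algebraMap B B̂ b := by
      rw [smul_eq_mul, map_mul]; ring
    rw [e]
    refine add_mem (Ideal.mul_mem_left _ _ hb') ?_
    rw [sq]
    exact Ideal.mul_mem_mul hc (by rw [AdicCompletion.maximalIdeal_eq_map]; exact Ideal.mem_map_of_mem _ hb)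

/-- A local ring with a node as completion is reduced. -/
theorem isReduced_of_completion (e : B̂ ≃+* NodeRing K) : _root_.IsReduced B := by
  have hinj : Function.Injective (algebraMap B B̂) := AdicCompletion.of_injective (maximalIdeal B) B
  exact isReduced_of_injective (e.toRingHom.comp (algebraMap B B̂)) (e.injective.comp hinj)

/-- A local ring with node as completion has no common uniformiser for powers of two tangent elements. -/
theorem false_of_completion (e : B̂ ≃+* NodeRing K)
    (h : ∀ b c : B, ∃ (q : ℕ) (π : B), 0 < q ∧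
      (b ^ q = 0 ∨ ∃ (n : ℕ) (w : B), IsUnit w ∧ b ^ q = w * π ^ n) ∧
      (c ^ q = 0 ∨ ∃ (n : ℕ) (w : B), IsUnit w ∧ c ^ q = w * π ^ n)) : False := by
  let ψ : Fin 2 → (B →+* PowerSeries K) := fun i => ((branch i).comp e.toRingHom).comp (algebraMap B B̂)
  -- elements tangent to the branches
  have hex : ∀ j : Fin 2, ∃ b : B, (ψ j b).order = 1 ∧ ∀ i, i ≠ j → 2 ≤ (ψ i b).order := by
    intro j
    have hz : e.symm (Ideal.Quotient.mk _ (X j)) ∈ maximalIdeal B̂ := by
      rw [mem_maximalIdeal, mem_nonunits_iff]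
      intro hu
      have := ((hu.map e).map (branch j))
      rw [e.apply_symm_apply, branch_mk, axis_X_self, PowerSeries.isUnit_iff_constantCoeff] at this
      simp at this
    obtain ⟨b, -, hb⟩ := exists_mem_sub_mem_sq hz
    refine ⟨b, ?_⟩
    have key : ∀ i, (PowerSeries.X : PowerSeries K) ^ 2 ∣ axis i (X j) - ψ i b := by
      intro i
      have hle : (maximalIdeal B̂).map ((branch i).comp e.toRingHom) ≤ Ideal.span {(PowerSeries.X : PowerSeries K)} :=
        Ideal.map_le_iff_le_comap.2 fun a ha => Ideal.mem_span_singleton.2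
          (X_dvd_branch i fun hu => ha (by simpa using hu.map e.symm))
      have h2 := Ideal.mem_map_of_mem ((branch i).comp e.toRingHom) hb
      rw [Ideal.map_pow] at h2
      have h3 := Ideal.pow_right_mono hle 2 h2
      rw [Ideal.span_singleton_pow, Ideal.mem_span_singleton] at h3
      rw [map_sub] at h3
      simpa [ψ, branch_mk] using h3
    refine ⟨?_, fun i hi => ?_⟩
    · have h1 := PowerSeries.X_pow_dvd_iff.1 (key j)
      refine (PowerSeries.order_eq_nat (n := 1)).2 ?_
      refine ⟨?_, fun m hm => ?_⟩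
      · have := h1 1 one_lt_two
        rw [axis_X_self, map_sub, PowerSeries.coeff_one_X, sub_eq_zero] at this
        rw [← this]; exact one_ne_zero
      · obtain rfl : m = 0 := by omega
        have := h1 0 two_pos
        rw [axis_X_self, map_sub, PowerSeries.coeff_zero_X, zero_sub, neg_eq_zero] at this
        exact this
    · have := key i
      rw [axis_X_of_ne (Ne.symm hi), zero_sub, dvd_neg] at this
      exact PowerSeries.nat_le_order _ 2 fun m hm => PowerSeries.X_pow_dvd_iff.1 this m hm
  obtain ⟨x, hx0, hx1⟩ := hex 0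
  obtain ⟨y, hy1, hy0⟩ := hex 1
  replace hx1 := hx1 1 (by decide)
  replace hy0 := hy0 0 (by decide)
  obtain ⟨q, π, hq, hx, hy⟩ := h x y
  have hord : ∀ (i : Fin 2) (b w : B) (n : ℕ), IsUnit w → b ^ q = w * π ^ n →
      q • (ψ i b).order = n • (ψ i π).order := by
    intro i b w n hw hb
    have := congrArg (fun z => (ψ i z).order) hb
    simp only [map_mul, map_pow, PowerSeries.order_mul, PowerSeries.order_pow] at this
    rwa [PowerSeries.order_zero_of_unit (hw.map (ψ i)), zero_add] at this
  have hne : ∀ (i : Fin 2) (b : B), (ψ i b).order = 1 → b ^ q ≠ 0 := by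
    intro i b hb h0
    have := congrArg (fun z => (ψ i z).order) h0
    simp only [map_pow, map_zero, PowerSeries.order_pow, hb, PowerSeries.order_zero, nsmul_one] at this
    exact ENat.coe_ne_top q this
  obtain ⟨n, w, hw, hxq⟩ := hx.resolve_left (hne 0 x hx0)
  obtain ⟨m, w', hw', hyq⟩ := hy.resolve_left (hne 1 y hy1)
  have a0 := hord 0 x w n hw hxq
  have a1 := hord 1 x w n hw hxq
  have b0 := hord 0 y w' m hw' hyq
  have b1 := hord 1 y w' m hw' hyq
  rw [hx0, nsmul_one] at a0
  rw [hy1, nsmul_one] at b1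
  have hfin : ∀ (j : ℕ) (o : ℕ∞), (q : ℕ∞) = j • o → ∃ e : ℕ, o = e ∧ j * e = q := by
    intro j o hjo
    rw [nsmul_eq_mul] at hjo
    induction o with
    | top =>
      rcases Nat.eq_zero_or_pos j with rfl | hj
      · rw [Nat.cast_zero, zero_mul] at hjo
        have : q = 0 := by exact_mod_cast hjo
        omega
      · rw [ENat.mul_top (by exact_mod_cast hj.ne')] at hjo
        exact absurd hjo (ENat.coe_ne_top q)
    | coe e => exact ⟨e, rfl, by exact_mod_cast hjo.symm⟩
  obtain ⟨e0, he0, hn⟩ := hfin n _ a0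
  obtain ⟨e1, he1, hm⟩ := hfin m _ b1
  have a1' : q • (2 : ℕ∞) ≤ n • (ψ 1 π).order := a1 ▸ nsmul_le_nsmul_right hx1 q
  have b0' : q • (2 : ℕ∞) ≤ m • (ψ 0 π).order := b0 ▸ nsmul_le_nsmul_right hy0 q
  rw [he1, nsmul_eq_mul, nsmul_eq_mul] at a1'
  rw [he0, nsmul_eq_mul, nsmul_eq_mul] at b0'
  have A : q * 2 ≤ n * e1 := by exact_mod_cast a1'
  have B' : q * 2 ≤ m * e0 := by exact_mod_cast b0'
  have : (q * 2) * (q * 2) ≤ (n * e0) * (m * e1) := by
    calc (q * 2) * (q * 2) ≤ (n * e1) * (m * e0) := Nat.mul_le_mul A B'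
      _ = (n * e0) * (m * e1) := by ring
  rw [hn, hm] at this
  nlinarith [Nat.mul_pos hq hq]

end Completion

end Groth.Agent.H11Node
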