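import Groth.Agent.H11Node.Ring
import Mathlib.RingTheory.Etale.Field
import Mathlib.RingTheory.Etale.Basic
import Mathlib.RingTheory.Unramified.LocalRing
import Mathlib.RingTheory.TensorProduct.Finite
import Mathlib.RingTheory.LocalRing.ResidueField.Fiber
import Mathlib.FieldTheory.PurelyInseparable.Basic
import Mathlib.FieldTheory.SeparableClosure
import Mathlib.RingTheory.Filtration

/-!
# No node above a one-dimensional regular point

If the maximal ideal of `A_p` is principal, then after an algebraic extension of the base field some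
power of every element of the local ring at a point over `p` is zero or a unit times a power of one
element; hence that local ring has no ordinary double point as completion.
-/

set_option autoImplicit false

universe u

open IsLocalRing TensorProduct

namespace Groth.Agent.H11Node

variable {k K A : Type u} [Field k] [Field K] [Algebra k K] [CommRing A] [Algebra k A]

/-- Some power of every element of `A ⊗ K` comes from a finite separable subextension. -/
theorem exists_pow_mem_range [Algebra.IsAlgebraic k K] [Nontrivial (A ⊗[k] K)] (z : A ⊗[k] K) :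
    ∃ (e : ℕ) (L : IntermediateField k K), FiniteDimensional k L ∧ Algebra.IsSeparable k L ∧
      z ^ ringExpChar k ^ e ∈ (Algebra.TensorProduct.map (AlgHom.id k A) L.val).range := by
  haveI : ExpChar (A ⊗[k] K) (ringExpChar k) :=
    expChar_of_injective_ringHom (algebraMap k (A ⊗[k] K)).injective _
  haveI : IsPurelyInseparable (separableClosure k K) K := separableClosure.isPurelyInseparable k K
  have key : ∀ (z : A ⊗[k] K) (L : IntermediateField k K) (e e' : ℕ), e ≤ e' →
      z ^ ringExpChar k ^ e ∈ (Algebra.TensorProduct.map (AlgHom.id k A) L.val).range →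
      z ^ ringExpChar k ^ e' ∈ (Algebra.TensorProduct.map (AlgHom.id k A) L.val).range := by
    intro z L e e' hle hz
    obtain ⟨d, rfl⟩ := Nat.exists_eq_add_of_le hle
    rw [pow_add, pow_mul]
    exact pow_mem hz _
  induction z using TensorProduct.induction_on with
  | zero =>
    refine ⟨0, ⊥, inferInstance, inferInstance, ?_⟩
    rw [zero_pow (by simp)]
    exact zero_mem _
  | tmul a l =>
    haveI : ExpChar (separableClosure k K) (ringExpChar k) :=
      expChar_of_injective_ringHom (algebraMap k (separableClosure k K)).injective _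
    obtain ⟨e, ⟨l', hl'⟩, he⟩ : ∃ e : ℕ, ∃ s : separableClosure k K,
        algebraMap (separableClosure k K) K s = l ^ ringExpChar k ^ e := by
      obtain ⟨e, he⟩ := IsPurelyInseparable.pow_mem (separableClosure k K) (ringExpChar k) l
      obtain ⟨s, hs⟩ := he
      exact ⟨e, s, hs⟩
    have hsep : IsSeparable k l' := mem_separableClosure_iff.1 hl'
    refine ⟨e, IntermediateField.adjoin k {l'},
      IntermediateField.adjoin.finiteDimensional hsep.isIntegral,
      IntermediateField.isSeparable_adjoin_simple_iff_isSeparable k K |>.2 hsep,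
      (a ^ ringExpChar k ^ e) ⊗ₜ[k] ⟨l', IntermediateField.mem_adjoin_simple_self k l'⟩, ?_⟩
    rw [Algebra.TensorProduct.tmul_pow, ← he]
    rfl
  | add x y hx hy =>
    obtain ⟨e, L, _, _, hx'⟩ := hx
    obtain ⟨e', L', _, _, hy'⟩ := hy
    haveI : Algebra.IsSeparable k ↥(L ⊔ L') := by infer_instance
    have mono : ∀ (M : IntermediateField k K) (hM : M ≤ L ⊔ L') (w : A ⊗[k] K),
        w ∈ (Algebra.TensorProduct.map (AlgHom.id k A) M.val).range →
        w ∈ (Algebra.TensorProduct.map (AlgHom.id k A) (L ⊔ L').val).range := by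
      rintro M hM w ⟨v, rfl⟩
      refine ⟨Algebra.TensorProduct.map (AlgHom.id k A) (IntermediateField.inclusion hM) v, ?_⟩
      induction v using TensorProduct.induction_on with
      | zero => simp
      | tmul a m => rfl
      | add v w hv hw => simp_all
    refine ⟨max e e', L ⊔ L', inferInstance, inferInstance, ?_⟩
    rw [add_pow_expChar_pow]
    exact add_mem (mono L le_sup_left _ (key x L e _ (le_max_left _ _) hx'))
      (mono L' le_sup_right _ (key y L' e' _ (le_max_right _ _) hy'))

/-- In an unramified finite algebra over a point with principal maximal ideal, and hence in every local ring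
under it, elements are zero or units times powers of the generator. -/
theorem eq_unit_mul_pow_of_unramified {A S T B : Type u} [CommRing A] [IsNoetherianRing A] [CommRing S]
    [Algebra A S] [Module.Finite A S] [Algebra.FormallyUnramified A S] [CommRing T] [CommRing B] [Algebra T B]
    (P : Ideal T) [P.IsPrime] [IsLocalization.AtPrime B P] (μ : S →+* T) (p : Ideal A) [p.IsPrime]
    (hp : p = P.comap (μ.comp (algebraMap A S))) (t : A)
    (ht : maximalIdeal (Localization.AtPrime p) = Ideal.span {algebraMap A _ t}) (y : S) :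
    algebraMap T B (μ y) = 0 ∨ ∃ (n : ℕ) (w : B), IsUnit w ∧
      algebraMap T B (μ y) = w * algebraMap T B (μ (algebraMap A S t)) ^ n := by
  let Q := P.comap μ
  haveI : Q.LiesOver p := ⟨by rw [hp]; rfl⟩
  haveI : Algebra.IsUnramifiedAt A Q := inferInstance
  let C := Localization.AtPrime Q
  haveI : IsNoetherianRing S := IsNoetherianRing.of_finite A S
  haveI : IsNoetherianRing C := IsLocalization.isNoetherianRing Q.primeCompl _ inferInstance
  letI := Localization.AtPrime.algebraOfLiesOver p Q
  have hC : maximalIdeal C = Ideal.span {algebraMap A C t} := by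
    have h := ((Algebra.isUnramifiedAt_iff_map_eq A p Q).mp inferInstance).2
    rw [← h]
    have h2 : p.map (algebraMap A (Localization.AtPrime p)) = Ideal.span {algebraMap A _ t} := by
      rw [Localization.AtPrime.map_eq_maximalIdeal]; exact ht
    rw [IsScalarTower.algebraMap_eq A (Localization.AtPrime p) C, ← Ideal.map_map, h2, Ideal.map_span,
      Set.image_singleton]
    rfl
  let g : C →+* B := IsLocalization.map B μ (show Q.primeCompl ≤ P.primeCompl.comap μ from fun x hx => hx)
  have hg : ∀ x, g (algebraMap S C x) = algebraMap T B (μ x) := fun x => IsLocalization.map_eq _ x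
  rw [← hg]
  by_cases h0 : algebraMap S C y = 0
  · exact .inl (by rw [h0, map_zero])
  right
  obtain ⟨n, hn⟩ : ∃ n, algebraMap S C y ∉ maximalIdeal C ^ n := by
    by_contra hall
    push Not at hall
    refine h0 ?_
    have := Ideal.iInf_pow_eq_bot_of_isLocalRing (maximalIdeal C) (maximalIdeal.isMaximal C).ne_top
    rw [← Ideal.mem_bot, ← this, Ideal.mem_iInf]
    exact hall
  induction n with
  | zero => exact absurd (by simp) hn
  | succ n ih =>
    by_cases h : algebraMap S C y ∈ maximalIdeal C ^ n
    · rw [hC, Ideal.span_singleton_pow, Ideal.mem_span_singleton'] at h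
      obtain ⟨w, hw⟩ := h
      refine ⟨n, g w, (IsLocalRing.notMem_maximalIdeal.1 fun hwm => hn ?_).map g, ?_⟩
      · rw [← hw, pow_succ']
        exact Ideal.mul_mem_mul hwm (Ideal.pow_mem_pow (by rw [hC]; exact Ideal.mem_span_singleton_self _) n)
      · rw [← hw, map_mul, map_pow, IsScalarTower.algebraMap_apply A S C, hg]
    · exact ih h

/-- Powers of elements over a point with principal maximal ideal. -/
theorem exists_pow_eq_unit_mul_pow [Algebra.IsAlgebraic k K] [IsNoetherianRing A] (P : Ideal (A ⊗[k] K)) [P.IsPrime]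
    {B : Type u} [CommRing B] [Algebra (A ⊗[k] K) B] [IsLocalization.AtPrime B P] (t : A)
    (ht : (maximalIdeal (Localization.AtPrime (P.comap (Algebra.TensorProduct.includeLeftRingHom (A := A))))) =
      Ideal.span {algebraMap A _ t}) (z : A ⊗[k] K) :
    ∃ N : ℕ, 0 < N ∧ (algebraMap (A ⊗[k] K) B z ^ N = 0 ∨ ∃ (n : ℕ) (w : B), IsUnit w ∧
      algebraMap (A ⊗[k] K) B z ^ N = w * algebraMap (A ⊗[k] K) B (t ⊗ₜ 1) ^ n) := by
  haveI : Nontrivial (A ⊗[k] K) := nontrivial_of_ne 0 1 fun h => ‹P.IsPrime›.ne_top
    ((Ideal.eq_top_iff_one P).2 (h ▸ zero_mem P))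
  obtain ⟨e, L, _, _, y, hy⟩ := exists_pow_mem_range z
  refine ⟨ringExpChar k ^ e, pow_pos (expChar_pos k (ringExpChar k)) _, ?_⟩
  haveI : Algebra.FormallyEtale k L := Algebra.FormallyEtale.of_isSeparable k L
  let μ := Algebra.TensorProduct.map (AlgHom.id A A) L.val
  have hy' : μ y = z ^ ringExpChar k ^ e := hy
  have h := eq_unit_mul_pow_of_unramified (S := A ⊗[k] L) (B := B) P μ.toRingHom
    (P.comap (Algebra.TensorProduct.includeLeftRingHom (A := A))) ?_ t ht y
  · simp only [AlgHom.toRingHom_eq_coe, RingHom.coe_coe, hy', AlgHom.commutes, map_pow] at h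
    exact h
  · ext a
    simp only [Ideal.mem_comap]
    show _ ↔ μ (a ⊗ₜ (1 : L)) ∈ P
    simp only [μ, Algebra.TensorProduct.map_tmul, map_one]
    rfl

/-- No node above a point with principal maximal ideal. -/
theorem false_of_node [Algebra.IsAlgebraic k K] [IsNoetherianRing A] (P : Ideal (A ⊗[k] K)) [P.IsPrime]
    {B : Type u} [CommRing B] [IsLocalRing B] [IsNoetherianRing B] [Algebra (A ⊗[k] K) B]
    [IsLocalization.AtPrime B P]
    (hp : (maximalIdeal (Localization.AtPrime
      (P.comap (Algebra.TensorProduct.includeLeftRingHom (A := A))))).IsPrincipal)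
    {F : Type u} [Field F] (e : AdicCompletion (maximalIdeal B) B ≃+* NodeRing F) : False := by
  let p := P.comap (Algebra.TensorProduct.includeLeftRingHom (A := A))
  obtain ⟨π0, hπ0⟩ := hp.principal
  obtain ⟨t, s, rfl⟩ := IsLocalization.exists_mk'_eq p.primeCompl π0
  have ht : maximalIdeal (Localization.AtPrime p) = Ideal.span {algebraMap A _ t} := by
    rw [hπ0, Ideal.submodule_span_eq, ← IsLocalization.mk'_spec (Localization.AtPrime p) t s]
    exact (Ideal.span_singleton_mul_right_unit (IsLocalization.map_units _ s) _).symm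
  refine false_of_completion e fun b c => ?_
  obtain ⟨a, s1, rfl⟩ := IsLocalization.exists_mk'_eq P.primeCompl b
  obtain ⟨a', s2, rfl⟩ := IsLocalization.exists_mk'_eq P.primeCompl c
  have key : ∀ (a : A ⊗[k] K) (s : P.primeCompl), ∃ N : ℕ, 0 < N ∧ (IsLocalization.mk' B a s ^ N = 0 ∨
      ∃ (n : ℕ) (w : B), IsUnit w ∧
        IsLocalization.mk' B a s ^ N = w * algebraMap (A ⊗[k] K) B (t ⊗ₜ 1) ^ n) := by
    intro a s
    obtain ⟨N, hN, h⟩ := exists_pow_eq_unit_mul_pow (B := B) P t ht a
    have hu : IsUnit (algebraMap (A ⊗[k] K) B s) := IsLocalization.map_units B s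
    have he : IsLocalization.mk' B a s ^ N = ↑(hu.unit⁻¹ ^ N) * algebraMap (A ⊗[k] K) B a ^ N := by
      rw [Units.val_pow_eq_pow_val, ← mul_pow]
      congr 1
      rw [eq_comm, ← IsLocalization.mk'_spec B a s, mul_left_comm, IsUnit.val_inv_mul, mul_one]
    refine ⟨N, hN, h.imp (fun h0 => by rw [he, h0, mul_zero]) ?_⟩
    rintro ⟨n, w, hw, hn⟩
    exact ⟨n, ↑(hu.unit⁻¹ ^ N) * w, (hu.unit⁻¹ ^ N).isUnit.mul hw, by rw [he, hn, mul_assoc]⟩
  obtain ⟨N, hN, h1⟩ := key a s1
  obtain ⟨M, hM, h2⟩ := key a' s2
  refine ⟨N * M, algebraMap (A ⊗[k] K) B (t ⊗ₜ 1), Nat.mul_pos hN hM, h1.imp (fun h => ?_) ?_, h2.imp (fun h => ?_) ?_⟩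
  · rw [pow_mul, h, zero_pow hM.ne']
  · rintro ⟨n, w, hw, hn⟩
    exact ⟨n * M, w ^ M, hw.pow M, by rw [pow_mul, hn, mul_pow, ← pow_mul]⟩
  · rw [mul_comm, pow_mul, h, zero_pow hN.ne']
  · rintro ⟨n, w, hw, hn⟩
    exact ⟨n * N, w ^ N, hw.pow N, by rw [mul_comm N, pow_mul, hn, mul_pow, ← pow_mul]⟩

end Groth.Agent.H11Node
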