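import Groth.Agent.H11Node.Algebra
import Groth.Agent.H8Props.Reduced
import Groth.Agent.H22Alg.FlatSurj
import Groth.Agent.H19Grp.RegularSmooth
import Groth.Agent.H4Depth.Regular
import Groth.Prelude.Def_CurvBase
import Mathlib.AlgebraicGeometry.Morphisms.Flat
import Mathlib.AlgebraicGeometry.Properties
import Mathlib.AlgebraicGeometry.Morphisms.FiniteType
import Mathlib.Topology.JacobsonSpace

/-!
# At-worst-nodal schemes over a field: reducedness, and regular ones are smooth
-/

set_option autoImplicit false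

universe u

open CategoryTheory CategoryTheory.Limits AlgebraicGeometry TopologicalSpace IsLocalRing TensorProduct

namespace Groth.Agent.H11Node

variable {k : Type u} [Field k] {X : Scheme.{u}} [X.Over (Spec (CommRingCat.of k))]
  [LocallyOfFiniteType (X ↘ Spec (CommRingCat.of k))]

theorem isLocallyNoetherian_of_over (k : Type u) [Field k] (X : Scheme.{u}) [X.Over (Spec (CommRingCat.of k))]
    [LocallyOfFiniteType (X ↘ Spec (CommRingCat.of k))] : IsLocallyNoetherian X :=
  LocallyOfFiniteType.isLocallyNoetherian (X ↘ Spec (CommRingCat.of k))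

theorem isLocallyNoetherian_bc (K : Type u) [Field K] [Algebra k K] : IsLocallyNoetherian (Curv2.bc k X K) := by
  haveI : LocallyOfFiniteType (Curv2.bcSnd k X K) := MorphismProperty.pullback_snd _ _ inferInstance
  exact LocallyOfFiniteType.isLocallyNoetherian (Curv2.bcSnd k X K)

/-- Data of a node: a point above whose local ring has node completion. -/
theorem exists_completion_iso {x : X} (h : Curv2.IsNode k X x) :
    ∃ (xb : Curv2.bc k X (AlgebraicClosure k)), Curv2.bcFst k X (AlgebraicClosure k) xb = x ∧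
      Nonempty (AdicCompletion (maximalIdeal ((Curv2.bc k X (AlgebraicClosure k)).presheaf.stalk xb))
        ((Curv2.bc k X (AlgebraicClosure k)).presheaf.stalk xb) ≃+* NodeRing (AlgebraicClosure k)) := by
  obtain ⟨-, xb, hxb, e, -⟩ := h
  exact ⟨xb, hxb, ⟨e⟩⟩

theorem isReduced_stalk_of_isNode {x : X} (h : Curv2.IsNode k X x) : _root_.IsReduced (X.presheaf.stalk x) := by
  obtain ⟨xb, rfl, ⟨e⟩⟩ := exists_completion_iso h
  haveI := isLocallyNoetherian_bc (k := k) (X := X) (AlgebraicClosure k)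
  haveI : _root_.IsReduced ((Curv2.bc k X (AlgebraicClosure k)).presheaf.stalk xb) := isReduced_of_completion e
  haveI : Flat (Spec.map (CommRingCat.ofHom (algebraMap k (AlgebraicClosure k)))) := by
    rw [HasRingHomProperty.Spec_iff (P := @Flat)]
    exact RingHom.flat_algebraMap_iff.2 inferInstance
  haveI : Flat (Curv2.bcFst k X (AlgebraicClosure k)) := MorphismProperty.pullback_fst _ _ inferInstance
  exact isReduced_of_injective ((Curv2.bcFst k X (AlgebraicClosure k)).stalkMap xb).hom
    (H8Props.injective_of_flat_of_isLocalHom _ (Flat.stalkMap _ _))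

theorem isReduced_stalk_of_specializes {x c : X} (h : x ⤳ c) [_root_.IsReduced (X.presheaf.stalk c)] :
    _root_.IsReduced (X.presheaf.stalk x) := by
  obtain ⟨p, hp⟩ : x ∈ Set.range (X.fromSpecStalk c) := by
    rw [Scheme.range_fromSpecStalk]; exact h
  subst hp
  haveI := H22Alg.flat_fromSpecStalk X c
  have hb := H8Props.bijective_stalkMap_of_flat (X.fromSpecStalk c) p (Flat.stalkMap _ _)
  exact isReduced_of_injective ((X.fromSpecStalk c).stalkMap p).hom hb.1

/-- An at-worst-nodal scheme is reduced. -/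
theorem isReduced_of_atWorstNodal (hX : Curv2.AtWorstNodal k X) : AlgebraicGeometry.IsReduced X := by
  haveI : JacobsonSpace X := LocallyOfFiniteType.jacobsonSpace (X ↘ Spec (CommRingCat.of k))
  haveI : ∀ x : X, _root_.IsReduced (X.presheaf.stalk x) := fun x => by
    obtain ⟨c, hc, hcc⟩ := nonempty_inter_closedPoints (Z := closure ({x} : Set X))
      ⟨x, subset_closure rfl⟩ isClosed_closure.isLocallyClosed
    haveI : _root_.IsReduced (X.presheaf.stalk c) := by
      rcases hX c hcc with ⟨U, hcU, hU⟩ | hn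
      · haveI := H19Grp.isRegularLocalRing_stalk_of_smooth (U.ι ≫ (X ↘ Spec (CommRingCat.of k))) ⟨c, hcU⟩
        haveI := H4Depth.isDomain_of_isRegularLocalRing ((U : Scheme.{u}).presheaf.stalk ⟨c, hcU⟩)
        exact isReduced_of_injective (U.stalkIso ⟨c, hcU⟩).inv.hom
          (ConcreteCategory.bijective_of_isIso (U.stalkIso ⟨c, hcU⟩).inv).1
      · exact isReduced_stalk_of_isNode hn
    exact isReduced_stalk_of_specializes (specializes_iff_mem_closure.2 hc)
  exact isReduced_of_isReduced_stalk X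

/-- A maximal ideal of a regular local ring of dimension at most one is principal. -/
theorem isPrincipal_maximalIdeal (R : Type u) [CommRing R] [IsRegularLocalRing R] (h : ringKrullDim R ≤ 1) :
    (maximalIdeal R).IsPrincipal := by
  classical
  rw [← IsRegularLocalRing.spanFinrank_maximalIdeal] at h
  have h1 : (maximalIdeal R).spanFinrank ≤ 1 := by exact_mod_cast h
  obtain ⟨s, hs, hspan⟩ := (IsNoetherian.noetherian (maximalIdeal R)).exists_span_set_encard_eq_spanFinrank
  have hs' : s.encard ≤ 1 := by rw [hs]; exact_mod_cast h1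
  rcases Set.encard_le_one_iff_eq.1 hs' with rfl | ⟨a, rfl⟩
  · exact ⟨⟨0, by rw [← hspan]; simp⟩⟩
  · exact ⟨⟨a, hspan.symm⟩⟩

/-- There is no node at a point with regular local ring of dimension at most one. -/
theorem not_isNode_of_isRegularLocalRing {x : X} [IsRegularLocalRing (X.presheaf.stalk x)]
    (hd : ringKrullDim (X.presheaf.stalk x) ≤ 1) : ¬ Curv2.IsNode k X x := by
  intro h
  obtain ⟨xb, rfl, ⟨e⟩⟩ := exists_completion_iso h
  haveI := isLocallyNoetherian_of_over k X
  haveI := isLocallyNoetherian_bc (k := k) (X := X) (AlgebraicClosure k)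
  obtain ⟨_, ⟨V, hV, rfl⟩, hxV, -⟩ := X.isBasis_affineOpens.exists_subset_of_mem_open
    (Set.mem_univ (Curv2.bcFst k X (AlgebraicClosure k) xb)) isOpen_univ
  let K := AlgebraicClosure k
  let φ := Spec.preimage (hV.fromSpec ≫ (X ↘ Spec (CommRingCat.of k)))
  letI : Algebra k Γ(X, V) := φ.hom.toAlgebra
  haveI : IsNoetherianRing Γ(X, V) := IsLocallyNoetherian.component_noetherian ⟨V, hV⟩
  have halg : Spec.map (CommRingCat.ofHom (algebraMap k Γ(X, V))) =
      hV.fromSpec ≫ (X ↘ Spec (CommRingCat.of k)) := Spec.map_preimage _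
  let σ := Spec.map (CommRingCat.ofHom (algebraMap k K))
  let m := pullback.map (Spec.map (CommRingCat.ofHom (algebraMap k Γ(X, V)))) σ
      (X ↘ Spec (CommRingCat.of k)) σ hV.fromSpec (𝟙 _) (𝟙 _) (by rw [Category.comp_id]; exact halg) (by simp [σ])
  let c : Spec (CommRingCat.of (Γ(X, V) ⊗[k] K)) ⟶ Curv2.bc k X K := (pullbackSpecIso k Γ(X, V) K).inv ≫ m
  haveI : IsOpenImmersion m := inferInstance
  haveI : IsOpenImmersion c := inferInstance
  have hfst : c ≫ Curv2.bcFst k X K =
      Spec.map (CommRingCat.ofHom Algebra.TensorProduct.includeLeftRingHom) ≫ hV.fromSpec := by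
    show c ≫ pullback.fst _ σ = _
    simp only [c, m, Category.assoc, pullback.lift_fst]
    rw [pullbackSpecIso_inv_fst_assoc]
  obtain ⟨y, hy⟩ : xb ∈ Set.range c := by
    simp only [c, Scheme.Hom.comp_base, TopCat.coe_comp, Set.range_comp]
    rw [(Set.range_eq_univ.mpr (Scheme.homeoOfIso (pullbackSpecIso k Γ(X, V) K).symm).surjective :
      Set.range ⇑(pullbackSpecIso k Γ(X, V) K).inv = Set.univ), Set.image_univ, Scheme.Pullback.range_map]
    refine ⟨?_, ⟨_, rfl⟩⟩
    show Curv2.bcFst k X (AlgebraicClosure k) xb ∈ Set.range hV.fromSpec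
    rw [hV.range_fromSpec]
    exact hxV
  subst hy
  letI : Algebra (Γ(X, V) ⊗[k] K) ((Spec (CommRingCat.of (Γ(X, V) ⊗[k] K))).presheaf.stalk y) :=
    (inferInstance : Algebra (Γ(X, V) ⊗[k] K)
      ((AlgebraicGeometry.Spec.structureSheaf (Γ(X, V) ⊗[k] K)).presheaf.stalk y))
  haveI : IsLocalization.AtPrime ((Spec (CommRingCat.of (Γ(X, V) ⊗[k] K))).presheaf.stalk y) y.asIdeal :=
    AlgebraicGeometry.StructureSheaf.IsLocalization.to_stalk (Γ(X, V) ⊗[k] K) y
  let eS := (asIso (c.stalkMap y)).commRingCatIsoToRingEquiv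
  letI : Algebra (Γ(X, V) ⊗[k] K) ((Curv2.bc k X (AlgebraicClosure k)).presheaf.stalk (c y)) :=
    (eS.symm.toRingHom.comp (algebraMap (Γ(X, V) ⊗[k] K)
      ((Spec (CommRingCat.of (Γ(X, V) ⊗[k] K))).presheaf.stalk y))).toAlgebra
  haveI : IsLocalization.AtPrime ((Curv2.bc k X (AlgebraicClosure k)).presheaf.stalk (c y)) y.asIdeal :=
    IsLocalization.isLocalization_of_algEquiv y.asIdeal.primeCompl
      (AlgEquiv.ofRingEquiv (f := eS.symm) (fun _ => rfl))
  let q : Spec Γ(X, V) := Spec.map (CommRingCat.ofHom Algebra.TensorProduct.includeLeftRingHom) y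
  have hq : hV.fromSpec q = Curv2.bcFst k X (AlgebraicClosure k) (c y) := by
    show _ = (c ≫ Curv2.bcFst k X K) y
    rw [hfst]
    rfl
  letI : Algebra Γ(X, V) (X.presheaf.stalk (Curv2.bcFst k X (AlgebraicClosure k) (c y))) :=
    X.presheaf.algebra_section_stalk ⟨_, hxV⟩
  haveI : IsLocalization.AtPrime (X.presheaf.stalk (Curv2.bcFst k X (AlgebraicClosure k) (c y)))
      (hV.primeIdealOf ⟨_, hxV⟩).asIdeal := hV.isLocalization_stalk ⟨_, hxV⟩
  have hprime : hV.primeIdealOf ⟨_, hxV⟩ = q :=
    hV.fromSpec.isOpenEmbedding.injective ((hV.fromSpec_primeIdealOf ⟨_, hxV⟩).trans hq.symm)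
  have key : ∀ (p : PrimeSpectrum Γ(X, V)), hV.primeIdealOf ⟨_, hxV⟩ = p →
      (maximalIdeal (Localization.AtPrime p.asIdeal)).IsPrincipal := by
    rintro _ rfl
    let e1 := (IsLocalization.algEquiv (hV.primeIdealOf ⟨_, hxV⟩).asIdeal.primeCompl
      (X.presheaf.stalk (Curv2.bcFst k X (AlgebraicClosure k) (c y)))
      (Localization.AtPrime (hV.primeIdealOf ⟨_, hxV⟩).asIdeal)).toRingEquiv
    haveI := IsRegularLocalRing.of_ringEquiv e1
    exact isPrincipal_maximalIdeal _ ((ringKrullDim_eq_of_ringEquiv e1).symm ▸ hd)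
  exact false_of_node (A := Γ(X, V)) (K := K) y.asIdeal (key q hprime) e

/-- A regular at-worst-nodal scheme of dimension at most one is smooth. -/
theorem smooth_of_atWorstNodal_of_regular (hdim : ∀ x : X, ringKrullDim (X.presheaf.stalk x) ≤ 1)
    (hX : Curv2.AtWorstNodal k X) (hreg : ∀ x : X, IsRegularLocalRing (X.presheaf.stalk x)) :
    Smooth (X ↘ Spec (CommRingCat.of k)) := by
  haveI : JacobsonSpace X := LocallyOfFiniteType.jacobsonSpace (X ↘ Spec (CommRingCat.of k))
  have hloc : ∀ x : X, ∃ U : X.Opens, x ∈ U ∧ Smooth (U.ι ≫ (X ↘ Spec (CommRingCat.of k))) := by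
    intro x
    obtain ⟨c, hc, hcc⟩ := nonempty_inter_closedPoints (Z := closure ({x} : Set X))
      ⟨x, subset_closure rfl⟩ isClosed_closure.isLocallyClosed
    haveI := hreg c
    obtain ⟨U, hcU, hU⟩ := (hX c hcc).resolve_right (not_isNode_of_isRegularLocalRing (hdim c))
    exact ⟨U, (specializes_iff_mem_closure.2 hc).mem_open U.isOpen hcU, hU⟩
  choose U hxU hU using hloc
  refine IsZariskiLocalAtSource.of_iSup_eq_top U (eq_top_iff.2 fun x _ => Opens.mem_iSup.2 ⟨x, hxU x⟩) hU

end Groth.Agent.H11Node
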